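import Groth.Prelude.Def_W4c1limliniiiiRamP1
import Groth.Agent.S19560
import Mathlib

/-!
Pencils of polynomials with prescribed ramification: basic tools
(root multiplicity counts, Wronskian divisibility and degree, separability in
characteristic `0` or `> d`, ramification index from the Wronskian).
-/

set_option autoImplicit false
universe u
open Polynomial W4c1limliniiii

namespace Groth.Agent.Lib.Helper2.Ram

variable {k : Type u} [Field k]

/-- Sum of root multiplicities at distinct points is at most the degree. -/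
theorem sum_rootMultiplicity_le {n : ℕ} (P : Fin n → k) (hP : Function.Injective P) {s : k[X]}
    (hs : s ≠ 0) : ∑ i, rootMultiplicity (P i) s ≤ s.natDegree := by
  classical
  calc ∑ i, rootMultiplicity (P i) s = ∑ a ∈ Finset.univ.image P, s.roots.count a := by
        rw [Finset.sum_image (fun i _ j _ h => hP h)]
        simp [count_roots]
    _ ≤ ∑ a ∈ s.roots.toFinset ∪ Finset.univ.image P, s.roots.count a :=
        Finset.sum_le_sum_of_subset Finset.subset_union_right
    _ = ∑ a ∈ s.roots.toFinset, s.roots.count a := by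
        symm
        apply Finset.sum_subset Finset.subset_union_left
        intro a _ ha
        exact Multiset.count_eq_zero.mpr (by simpa using ha)
    _ = Multiset.card s.roots := Multiset.toFinset_sum_count_eq _
    _ ≤ s.natDegree := card_roots' s

theorem two_rootMultiplicity_le {a b : k} (hab : a ≠ b) {s : k[X]} (hs : s ≠ 0) :
    rootMultiplicity a s + rootMultiplicity b s ≤ s.natDegree := by
  have hinj : Function.Injective ![a, b] := by
    intro i j h
    fin_cases i <;> fin_cases j <;> simp_all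
  have := sum_rootMultiplicity_le ![a, b] hinj hs
  simpa [Fin.sum_univ_two] using this

theorem three_rootMultiplicity_le {a b c : k} (hab : a ≠ b) (hbc : b ≠ c) (hca : c ≠ a)
    {s : k[X]} (hs : s ≠ 0) :
    rootMultiplicity a s + rootMultiplicity b s + rootMultiplicity c s ≤ s.natDegree := by
  have hinj : Function.Injective ![a, b, c] := by
    intro i j h
    fin_cases i <;> fin_cases j <;> simp_all [eq_comm]
  have := sum_rootMultiplicity_le ![a, b, c] hinj hs
  simpa [Fin.sum_univ_three] using this

theorem four_rootMultiplicity_le {a b c r : k} (hab : a ≠ b) (hbc : b ≠ c) (hca : c ≠ a)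
    (hra : r ≠ a) (hrb : r ≠ b) (hrc : r ≠ c) {s : k[X]} (hs : s ≠ 0) :
    rootMultiplicity a s + rootMultiplicity b s + rootMultiplicity c s + rootMultiplicity r s
      ≤ s.natDegree := by
  have hinj : Function.Injective ![a, b, c, r] := by
    intro i j h
    fin_cases i <;> fin_cases j <;> simp_all [eq_comm]
  have := sum_rootMultiplicity_le ![a, b, c, r] hinj hs
  simpa [Fin.sum_univ_four] using this

theorem pow_dvd_of_le_rootMultiplicity {a : k} {m : ℕ} {s : k[X]} (h : m ≤ rootMultiplicity a s) :
    (X - C a) ^ m ∣ s :=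
  (pow_dvd_pow _ h).trans (pow_rootMultiplicity_dvd s a)

/-! ### Wronskian identities -/

theorem wronskian_comb (F G : k[X]) (α β γ δ : k) :
    wronskian (α • F + β • G) (γ • F + δ • G) = (α * δ - β * γ) • wronskian F G := by
  simp only [wronskian, smul_eq_C_mul, derivative_add, derivative_mul, derivative_C, zero_mul,
    zero_add, map_sub, map_mul]
  ring

theorem wronskian_swap (F G : k[X]) : wronskian G F = - wronskian F G := by
  simp only [wronskian]; ring

theorem wronskian_mul_mul (g a b : k[X]) : wronskian (g * a) (g * b) = g ^ 2 * wronskian a b := by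
  simp only [wronskian, derivative_mul]; ring

/-- If `(X - a)^(m+1) ∣ s` and `(X - a)^(n+1) ∣ t` then `(X - a)^(m+n+1) ∣ W(s,t)`. -/
theorem pow_dvd_wronskian {a : k} {m n : ℕ} {s t : k[X]} (hs : (X - C a) ^ (m + 1) ∣ s)
    (ht : (X - C a) ^ (n + 1) ∣ t) : (X - C a) ^ (m + n + 1) ∣ wronskian s t := by
  obtain ⟨q, rfl⟩ := hs
  obtain ⟨r, rfl⟩ := ht
  refine ⟨q * (C ((n + 1 : ℕ) : k) * r + (X - C a) * derivative r)
    - (C ((m + 1 : ℕ) : k) * q + (X - C a) * derivative q) * r, ?_⟩
  simp only [wronskian, derivative_mul, derivative_X_sub_C_pow, Nat.add_sub_cancel]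
  ring

/-- If `(X - a)^(m+1) ∣ s` then `(X - a)^m ∣ W(s,t)`. -/
theorem pow_dvd_wronskian_left {a : k} {m : ℕ} {s : k[X]} (t : k[X])
    (hs : (X - C a) ^ (m + 1) ∣ s) : (X - C a) ^ m ∣ wronskian s t := by
  obtain ⟨q, rfl⟩ := hs
  refine ⟨(X - C a) * q * derivative t
    - (C ((m + 1 : ℕ) : k) * q + (X - C a) * derivative q) * t, ?_⟩
  simp only [wronskian, derivative_mul, derivative_X_sub_C_pow, Nat.add_sub_cancel]
  ring

theorem pow_dvd_wronskian_right {a : k} {m : ℕ} {s : k[X]} (t : k[X])
    (hs : (X - C a) ^ (m + 1) ∣ s) : (X - C a) ^ m ∣ wronskian t s := by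
  rw [wronskian_swap]
  exact (dvd_neg).mpr (pow_dvd_wronskian_left t hs)

/-- Degree bound for the Wronskian: `deg W(F,G) ≤ 2d - 2`. -/
theorem natDegree_wronskian_add_two_le {F G : k[X]} {d : ℕ} (hF : F.natDegree ≤ d)
    (hG : G.natDegree ≤ d) (hW : wronskian F G ≠ 0) : (wronskian F G).natDegree + 2 ≤ 2 * d := by
  have h0 := natDegree_wronskian_lt_add hW
  by_cases hF' : F.natDegree < d
  · omega
  by_cases hG' : G.natDegree < d
  · omega
  have hFd : F.natDegree = d := by omega
  have hGd : G.natDegree = d := by omega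
  have hF0 : F ≠ 0 := by
    rintro rfl; rw [wronskian_zero_left] at hW; exact hW rfl
  have hG0 : G ≠ 0 := by
    rintro rfl; rw [wronskian_zero_right] at hW; exact hW rfl
  set c : k := F.leadingCoeff / G.leadingCoeff with hc
  have hlG : G.leadingCoeff ≠ 0 := leadingCoeff_ne_zero.mpr hG0
  have hc0 : c ≠ 0 := div_ne_zero (leadingCoeff_ne_zero.mpr hF0) hlG
  have hW' : wronskian (F - C c * G) G = wronskian F G := by
    simp only [wronskian, derivative_sub, derivative_mul, derivative_C, zero_mul, zero_add]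
    ring
  have hW'' : wronskian (F - C c * G) G ≠ 0 := by rw [hW']; exact hW
  have hF1 : F - C c * G ≠ 0 := by
    intro h; rw [h, wronskian_zero_left] at hW''; exact hW'' rfl
  have hdeg : (F - C c * G).degree < F.degree := by
    apply degree_sub_lt_left
    · rw [degree_C_mul hc0, degree_eq_natDegree hF0, degree_eq_natDegree hG0, hFd, hGd]
    · exact hF0
    · rw [leadingCoeff_mul, leadingCoeff_C, hc, div_mul_cancel₀ _ hlG]
  have hnd : (F - C c * G).natDegree < F.natDegree := natDegree_lt_natDegree hF1 hdeg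
  have h1 := natDegree_wronskian_lt_add hW''
  rw [hW'] at h1
  omega

/-! ### Separability in characteristic `0` or `> d` -/

theorem eq_C_of_derivative_eq_zero {p : ℕ} [CharP k p] {a : k[X]} (hp : p = 0 ∨ a.natDegree < p)
    (h : derivative a = 0) : a = C (a.coeff 0) := by
  ext n
  rcases n with _ | n
  · simp
  · rw [coeff_C_succ]
    have h1 : (derivative a).coeff n = 0 := by rw [h, coeff_zero]
    rw [coeff_derivative] at h1
    by_cases hn : a.natDegree < n + 1
    · exact coeff_eq_zero_of_natDegree_lt hn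
    · have hne : ((n : k) + 1) ≠ 0 := by
        have : ((n + 1 : ℕ) : k) ≠ 0 := by
          intro h0
          have hdvd := (CharP.cast_eq_zero_iff k p (n + 1)).mp h0
          rcases hp with hp | hp
          · rw [hp, zero_dvd_iff] at hdvd; omega
          · have := Nat.le_of_dvd (by omega) hdvd
            omega
        simpa using this
      exact (mul_eq_zero.mp h1).resolve_right hne

theorem exists_coprime_factor (F G : k[X]) (hG0 : G ≠ 0) :
    ∃ g a b : k[X], g ≠ 0 ∧ g * a = F ∧ g * b = G ∧ IsCoprime a b := by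
  classical
  letI : GCDMonoid k[X] := EuclideanDomain.gcdMonoid _
  have hgF : GCDMonoid.gcd F G ∣ F := GCDMonoid.gcd_dvd_left F G
  have hgG : GCDMonoid.gcd F G ∣ G := GCDMonoid.gcd_dvd_right F G
  have hg0 : GCDMonoid.gcd F G ≠ 0 := by
    intro h
    rw [h, zero_dvd_iff] at hgG
    exact hG0 hgG
  exact ⟨GCDMonoid.gcd F G, F / GCDMonoid.gcd F G, G / GCDMonoid.gcd F G, hg0,
    EuclideanDomain.mul_div_cancel' hg0 hgF, EuclideanDomain.mul_div_cancel' hg0 hgG,
    isCoprime_div_gcd_div_gcd hG0⟩

theorem wronskian_ne_zero_of_indep {p : ℕ} [CharP k p] {d : ℕ} (hp : p = 0 ∨ d < p) {F G : k[X]}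
    (hF : F.natDegree ≤ d) (hG : G.natDegree ≤ d)
    (hli : ∀ α β : k, α • F + β • G = 0 → α = 0 ∧ β = 0) : wronskian F G ≠ 0 := by
  intro hW
  have hF0 : F ≠ 0 := by
    rintro rfl
    have := (hli 1 0 (by simp)).1
    exact one_ne_zero this
  have hG0 : G ≠ 0 := by
    rintro rfl
    have := (hli 0 1 (by simp)).2
    exact one_ne_zero this
  obtain ⟨g, a, b, hg0, hFa, hGb, hcop⟩ := exists_coprime_factor F G hG0
  have hW2 : wronskian a b = 0 := by
    have := wronskian_mul_mul g a b
    rw [hFa, hGb, hW] at this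
    exact (mul_eq_zero.mp this.symm).resolve_left (pow_ne_zero 2 hg0)
  obtain ⟨ha, hb⟩ := hcop.wronskian_eq_zero_iff.mp hW2
  have hda : a.natDegree ≤ d :=
    (natDegree_le_of_dvd ⟨g, by rw [mul_comm]; exact hFa.symm⟩ hF0).trans hF
  have hdb : b.natDegree ≤ d :=
    (natDegree_le_of_dvd ⟨g, by rw [mul_comm]; exact hGb.symm⟩ hG0).trans hG
  have ha' := eq_C_of_derivative_eq_zero (p := p) (hp.imp id (fun h => lt_of_le_of_lt hda h)) ha
  have hb' := eq_C_of_derivative_eq_zero (p := p) (hp.imp id (fun h => lt_of_le_of_lt hdb h)) hb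
  have h1 : (b.coeff 0) • F + (-(a.coeff 0)) • G = 0 := by
    rw [← hFa, ← hGb]
    conv_lhs => rw [ha', hb']
    simp only [smul_eq_C_mul, map_neg, coeff_C_zero]
    ring
  obtain ⟨hβ, hα⟩ := hli _ _ h1
  apply hG0
  rw [← hGb, hb', hβ, map_zero, mul_zero]

/-! ### Ramification index from the Wronskian -/

theorem wronskian_pair {F G : k[X]} {r : k} {s0 s1 : k[X]} (hs0 : s0 ∈ Submodule.span k {F, G})
    (hs1 : s1 ∈ Submodule.span k {F, G}) (h0 : s0.eval r ≠ 0) (h1 : s1.eval r = 0)
    (hne : s1 ≠ 0) : ∃ c : k, c ≠ 0 ∧ wronskian s0 s1 = C c * wronskian F G := by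
  rw [Submodule.mem_span_pair] at hs0 hs1
  obtain ⟨α, β, hs0⟩ := hs0
  obtain ⟨γ, δ, hs1⟩ := hs1
  refine ⟨α * δ - β * γ, ?_, ?_⟩
  · intro hc
    have e1 : δ • s0 - β • s1 = (α * δ - β * γ) • F := by
      rw [← hs0, ← hs1]; module
    have e2 : γ • s0 - α • s1 = (β * γ - α * δ) • G := by
      rw [← hs0, ← hs1]; module
    have hc' : β * γ - α * δ = 0 := by linear_combination -hc
    rw [hc, zero_smul] at e1
    rw [hc', zero_smul] at e2
    have e1' := congrArg (eval r) e1
    have e2' := congrArg (eval r) e2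
    simp only [eval_sub, eval_smul, h1, smul_eq_mul, mul_zero, sub_zero, eval_zero] at e1' e2'
    have hδ : δ = 0 := (mul_eq_zero.mp e1').resolve_right h0
    have hγ : γ = 0 := (mul_eq_zero.mp e2').resolve_right h0
    apply hne
    rw [← hs1, hδ, hγ, zero_smul, zero_smul, add_zero]
  · rw [← hs0, ← hs1, wronskian_comb, smul_eq_C_mul]

/-- If the Wronskian of a basis vanishes to order exactly `m - 1` at `r`, the pencil has no base
point at `r` and some non-zero member vanishes to order `≥ m`, then the ramification index is `m`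
(no tameness hypothesis). -/
theorem hasRamIdx_of_wronskian {F G : k[X]} (hW : wronskian F G ≠ 0) (r : k) (m : ℕ)
    (hbpf : ∃ s ∈ Submodule.span k {F, G}, s.eval r ≠ 0)
    (hm : rootMultiplicity r (wronskian F G) + 1 = m)
    (hex : ∃ s ∈ Submodule.span k {F, G}, s ≠ 0 ∧ m ≤ rootMultiplicity r s) :
    HasRamIdx (Submodule.span k {F, G}) r m := by
  refine ⟨hex, ?_⟩
  intro s hs hs0
  by_contra hlt
  rw [not_le] at hlt
  obtain ⟨s0, hs0V, hs0r⟩ := hbpf
  have hsr : s.eval r = 0 := (rootMultiplicity_pos hs0).mp (by omega)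
  obtain ⟨c, hc, hWs⟩ := wronskian_pair hs0V hs hs0r hsr hs0
  have hWs0 : wronskian s0 s ≠ 0 := by
    rw [hWs]; exact mul_ne_zero (C_ne_zero.mpr hc) hW
  obtain ⟨hA, hB⟩ := Groth.Agent.S19560.wronskian_order r s0 s hs0r hs0 hWs0
  rw [hWs, Groth.Agent.S19560.rootMultiplicity_C_mul' r c hc] at hA hB
  by_cases hmk : ((rootMultiplicity r s : ℕ) : k) = 0
  · have := hB hmk; omega
  · have := hA hmk; omega

/-- A two-dimensional space containing two independent vectors is their span. -/
theorem eq_span_pair {V : Submodule k k[X]} (h2 : Module.finrank k V = 2) {x y : k[X]}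
    (hx : x ∈ V) (hy : y ∈ V) (hli : ∀ α β : k, α • x + β • y = 0 → α = 0 ∧ β = 0) :
    V = Submodule.span k {x, y} := by
  have hli' : LinearIndependent k ![x, y] := by
    rw [LinearIndependent.pair_iff]; exact hli
  have hr : Set.range ![x, y] = {x, y} := by simp [Matrix.range_cons, Set.pair_comm]
  have hfr := finrank_span_eq_card hli'
  rw [hr] at hfr
  have hle : Submodule.span k {x, y} ≤ V := by
    rw [Submodule.span_le]
    rintro z (rfl | rfl)
    · exact hx
    · exact hy
  have : FiniteDimensional k V := FiniteDimensional.of_finrank_pos (by rw [h2]; norm_num)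
  exact (Submodule.eq_of_le_of_finrank_eq hle (by rw [h2]; simpa using hfr)).symm

theorem finrank_span_pair {x y : k[X]} (hli : ∀ α β : k, α • x + β • y = 0 → α = 0 ∧ β = 0) :
    Module.finrank k (Submodule.span k {x, y}) = 2 := by
  have hli' : LinearIndependent k ![x, y] := by
    rw [LinearIndependent.pair_iff]; exact hli
  have hr : Set.range ![x, y] = {x, y} := by simp [Matrix.range_cons, Set.pair_comm]
  have hfr := finrank_span_eq_card hli'
  rw [hr] at hfr
  simpa using hfr

end Groth.Agent.Lib.Helper2.Ram
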