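import Groth.Agent.Lib.Helper2.Ram.Three

/-!
Existence of the three-point pencil by a dimension count, and its properties.
-/

set_option autoImplicit false
universe u
open Polynomial W4c1limliniiii

namespace Groth.Agent.Lib.Helper2.Ram

variable {k : Type u} [Field k]

theorem mul_mem_degreeLT {a : k} {e d : ℕ} (he : e ≤ d) {q : k[X]}
    (hq : q ∈ degreeLT k (d + 1 - e)) : (X - C a) ^ e * q ∈ degreeLT k (d + 1) := by
  by_cases hq0 : q = 0
  · subst hq0; simp
  rw [mem_degreeLT] at hq ⊢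
  have h1 : q.natDegree < d + 1 - e := by rwa [degree_eq_natDegree hq0, Nat.cast_lt] at hq
  have h2 : ((X - C a) ^ e * q).natDegree ≤ d := by
    refine natDegree_mul_le.trans ?_
    have := natDegree_pow_le (p := X - C a) (n := e)
    rw [natDegree_X_sub_C, mul_one] at this
    omega
  exact lt_of_le_of_lt degree_le_natDegree (by exact_mod_cast Nat.lt_succ_of_le h2)

theorem finrank_degreeLT (n : ℕ) : Module.finrank k (degreeLT k n) = n := by
  rw [(degreeLTEquiv k n).finrank_eq, Module.finrank_fin_fun]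

instance (n : ℕ) : Module.Finite k (degreeLT k n) :=
  Module.Finite.equiv (degreeLTEquiv k n).symm

theorem no_pair {a b : k} (hab : a ≠ b) {ea eb d : ℕ} (h : d < ea + eb) {x : k[X]}
    (hx : x ≠ 0) (hxd : x.natDegree ≤ d) (hxa : (X - C a) ^ ea ∣ x) (hxb : (X - C b) ^ eb ∣ x) :
    False := by
  have h1 := (le_rootMultiplicity_iff hx).mpr hxa
  have h2 := (le_rootMultiplicity_iff hx).mpr hxb
  have := two_rootMultiplicity_le hab hx
  omega

theorem aux3 {x y z : k[X]} (hsum : x + y + z = 0) (hne : ¬ (x = 0 ∧ y = 0 ∧ z = 0))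
    (hxy : x ≠ 0 → x + y = 0 → False) (hyz : y ≠ 0 → y + z = 0 → False)
    (hzx : z ≠ 0 → z + x = 0 → False) : x ≠ 0 ∧ y ≠ 0 ∧ z ≠ 0 := by
  refine ⟨?_, ?_, ?_⟩
  · rintro rfl
    rw [zero_add] at hsum
    by_cases hy : y = 0
    · subst hy
      rw [zero_add] at hsum
      exact hne ⟨rfl, rfl, hsum⟩
    · exact hyz hy hsum
  · rintro rfl
    rw [add_zero] at hsum
    by_cases hz : z = 0
    · subst hz
      rw [add_zero] at hsum
      exact hne ⟨hsum, rfl, rfl⟩
    · exact hzx hz (by rw [add_comm]; exact hsum)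
  · rintro rfl
    rw [add_zero] at hsum
    by_cases hx : x = 0
    · subst hx
      rw [zero_add] at hsum
      exact hne ⟨rfl, hsum, rfl⟩
    · exact hxy hx hsum

/-- Dimension count: three non-zero polynomials of degree `≤ d`, vanishing to the required
orders at the three points, with sum zero. -/
theorem exists_triple {d : ℕ} {a b c : k} {ea eb ec : ℕ} (hD : Data d a b c ea eb ec) :
    ∃ x y z : k[X], x + y + z = 0 ∧ x ≠ 0 ∧ y ≠ 0 ∧ z ≠ 0 ∧ x.natDegree ≤ d ∧ y.natDegree ≤ d ∧
      z.natDegree ≤ d ∧ ea ≤ rootMultiplicity a x ∧ eb ≤ rootMultiplicity b y ∧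
      ec ≤ rootMultiplicity c z := by
  have hsum := hD.hsum
  have h1 := hD.ha
  have h2 := hD.hb
  have h3 := hD.hc
  set na := d + 1 - ea with hna
  set nb := d + 1 - eb with hnb
  set nc := d + 1 - ec with hnc
  let Φ₀ : (degreeLT k na × degreeLT k nb × degreeLT k nc) →ₗ[k] k[X] :=
    (LinearMap.mulLeft k ((X - C a) ^ ea)) ∘ₗ (degreeLT k na).subtype ∘ₗ LinearMap.fst k _ _
    + (LinearMap.mulLeft k ((X - C b) ^ eb)) ∘ₗ (degreeLT k nb).subtype ∘ₗ LinearMap.fst k _ _
        ∘ₗ LinearMap.snd k _ _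
    + (LinearMap.mulLeft k ((X - C c) ^ ec)) ∘ₗ (degreeLT k nc).subtype ∘ₗ LinearMap.snd k _ _
        ∘ₗ LinearMap.snd k _ _
  have hΦ₀ : ∀ q, Φ₀ q = (X - C a) ^ ea * (q.1 : k[X]) + (X - C b) ^ eb * (q.2.1 : k[X])
      + (X - C c) ^ ec * (q.2.2 : k[X]) := fun q => rfl
  have hmem : ∀ q, Φ₀ q ∈ degreeLT k (d + 1) := by
    intro q
    rw [hΦ₀]
    exact Submodule.add_mem _ (Submodule.add_mem _ (mul_mem_degreeLT h1 q.1.2)
      (mul_mem_degreeLT h2 q.2.1.2)) (mul_mem_degreeLT h3 q.2.2.2)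
  let Φ := Φ₀.codRestrict (degreeLT k (d + 1)) hmem
  have hker : LinearMap.ker Φ ≠ ⊥ := by
    apply LinearMap.ker_ne_bot_of_finrank_lt
    rw [Module.finrank_prod, Module.finrank_prod, finrank_degreeLT, finrank_degreeLT,
      finrank_degreeLT, finrank_degreeLT]
    omega
  obtain ⟨q, hqker, hq0⟩ := (Submodule.ne_bot_iff _).mp hker
  have hq : Φ₀ q = 0 := by
    have := LinearMap.mem_ker.mp hqker
    exact congrArg Subtype.val this
  rw [hΦ₀] at hq
  set x : k[X] := (X - C a) ^ ea * (q.1 : k[X]) with hx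
  set y : k[X] := (X - C b) ^ eb * (q.2.1 : k[X]) with hy
  set z : k[X] := (X - C c) ^ ec * (q.2.2 : k[X]) with hz
  have hxd : ∀ {w : k[X]}, w ∈ degreeLT k (d + 1) → w ≠ 0 → w.natDegree ≤ d := by
    intro w hw hw0
    rw [mem_degreeLT, degree_eq_natDegree hw0, Nat.cast_lt] at hw
    omega
  have hxm : x ∈ degreeLT k (d + 1) := mul_mem_degreeLT h1 q.1.2
  have hym : y ∈ degreeLT k (d + 1) := mul_mem_degreeLT h2 q.2.1.2
  have hzm : z ∈ degreeLT k (d + 1) := mul_mem_degreeLT h3 q.2.2.2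
  have hxa : (X - C a) ^ ea ∣ x := dvd_mul_right _ _
  have hyb : (X - C b) ^ eb ∣ y := dvd_mul_right _ _
  have hzc : (X - C c) ^ ec ∣ z := dvd_mul_right _ _
  have hne : ¬ (x = 0 ∧ y = 0 ∧ z = 0) := by
    rintro ⟨e1, e2, e3⟩
    apply hq0
    have f1 : (q.1 : k[X]) = 0 :=
      (mul_eq_zero.mp e1).resolve_left (pow_ne_zero _ (X_sub_C_ne_zero a))
    have f2 : (q.2.1 : k[X]) = 0 :=
      (mul_eq_zero.mp e2).resolve_left (pow_ne_zero _ (X_sub_C_ne_zero b))
    have f3 : (q.2.2 : k[X]) = 0 :=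
      (mul_eq_zero.mp e3).resolve_left (pow_ne_zero _ (X_sub_C_ne_zero c))
    refine Prod.ext (Subtype.ext f1) (Prod.ext (Subtype.ext f2) (Subtype.ext f3))
  obtain ⟨hx0, hy0, hz0⟩ := aux3 hq hne
    (fun hx0 hxy => no_pair hD.hab (by omega : d < ea + eb) hx0 (hxd hxm hx0) hxa
      (by rw [eq_neg_of_add_eq_zero_left hxy]; exact (dvd_neg).mpr hyb))
    (fun hy0 hyz => no_pair hD.hbc (by omega : d < eb + ec) hy0 (hxd hym hy0) hyb
      (by rw [eq_neg_of_add_eq_zero_left hyz]; exact (dvd_neg).mpr hzc))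
    (fun hz0 hzx => no_pair hD.hca (by omega : d < ec + ea) hz0 (hxd hzm hz0) hzc
      (by rw [eq_neg_of_add_eq_zero_left hzx]; exact (dvd_neg).mpr hxa))
  exact ⟨x, y, z, hq, hx0, hy0, hz0, hxd hxm hx0, hxd hym hy0, hxd hzm hz0,
    (le_rootMultiplicity_iff hx0).mpr hxa, (le_rootMultiplicity_iff hy0).mpr hyb,
    (le_rootMultiplicity_iff hz0).mpr hzc⟩

/-- Basic properties of the span of a triple. -/
theorem span_of_triple {d : ℕ} {a b c : k} {ea eb ec : ℕ} (hD : Data d a b c ea eb ec)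
    {x y z : k[X]} (hsum : x + y + z = 0) (hx0 : x ≠ 0) (hy0 : y ≠ 0) (hz0 : z ≠ 0)
    (hxd : x.natDegree ≤ d) (hyd : y.natDegree ≤ d)
    (hxa : ea ≤ rootMultiplicity a x) (hyb : eb ≤ rootMultiplicity b y)
    (hzc : ec ≤ rootMultiplicity c z) :
    Submodule.span k {x, y} ≤ degreeLE k d ∧ Module.finrank k (Submodule.span k {x, y}) = 2 ∧
      (∃ s ∈ Submodule.span k {x, y}, s ≠ 0 ∧ ea ≤ rootMultiplicity a s) ∧
      (∃ s ∈ Submodule.span k {x, y}, s ≠ 0 ∧ eb ≤ rootMultiplicity b s) ∧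
      (∃ s ∈ Submodule.span k {x, y}, s ≠ 0 ∧ ec ≤ rootMultiplicity c s) := by
  have hsumD := hD.hsum
  have h1 := hD.ha
  have h2 := hD.hb
  have h3 := hD.hc
  have hxV : x ∈ Submodule.span k {x, y} := Submodule.subset_span (by simp)
  have hyV : y ∈ Submodule.span k {x, y} := Submodule.subset_span (by simp)
  have hzV : z ∈ Submodule.span k {x, y} := by
    have : z = -(x + y) := eq_neg_of_add_eq_zero_right hsum
    rw [this]
    exact Submodule.neg_mem _ (Submodule.add_mem _ hxV hyV)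
  refine ⟨?_, finrank_span_pair (indep2 hD.hab (by omega : d < ea + eb) hx0 hy0 hxd hxa hyb),
    ⟨x, hxV, hx0, hxa⟩, ⟨y, hyV, hy0, hyb⟩, ⟨z, hzV, hz0, hzc⟩⟩
  rw [Submodule.span_le]
  rintro w (rfl | rfl)
  · exact mem_degreeLE.mpr (degree_le_of_natDegree_le hxd)
  · exact mem_degreeLE.mpr (degree_le_of_natDegree_le hyd)

/-- If the Wronskian of the triple does not vanish, its span is a base-point-free pencil of
degree `d` with ramification indices exactly `ea`, `eb`, `ec`. -/
theorem pencil_of_triple {d : ℕ} {a b c : k} {ea eb ec : ℕ} (hD : Data d a b c ea eb ec)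
    {x y z : k[X]} (hsum : x + y + z = 0) (hx0 : x ≠ 0) (hy0 : y ≠ 0) (hz0 : z ≠ 0)
    (hxd : x.natDegree ≤ d) (hyd : y.natDegree ≤ d)
    (hxa : ea ≤ rootMultiplicity a x) (hyb : eb ≤ rootMultiplicity b y)
    (hzc : ec ≤ rootMultiplicity c z) (hW : wronskian x y ≠ 0) :
    IsPencil d (Submodule.span k {x, y}) ∧ HasRamIdx (Submodule.span k {x, y}) a ea ∧
      HasRamIdx (Submodule.span k {x, y}) b eb ∧ HasRamIdx (Submodule.span k {x, y}) c ec := by
  obtain ⟨hle, hfr, hsa, hsb, hsc⟩ := span_of_triple hD hsum hx0 hy0 hz0 hxd hyd hxa hyb hzc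
  have hsumD := hD.hsum
  have h1 := hD.ha
  have h2 := hD.hb
  have h3 := hD.hc
  have hzeq : z = -(x + y) := eq_neg_of_add_eq_zero_right hsum
  have hWzx : wronskian z x = wronskian x y := by
    rw [hzeq]
    simp only [wronskian, derivative_neg, derivative_add]
    ring
  -- divisibility
  have hea : ea - 1 + 1 = ea := by omega
  have heb : eb - 1 + 1 = eb := by omega
  have hec : ec - 1 + 1 = ec := by omega
  have dxa : (X - C a) ^ (ea - 1 + 1) ∣ x := by rw [hea]; exact pow_dvd_of_le_rootMultiplicity hxa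
  have dyb : (X - C b) ^ (eb - 1 + 1) ∣ y := by rw [heb]; exact pow_dvd_of_le_rootMultiplicity hyb
  have dzc : (X - C c) ^ (ec - 1 + 1) ∣ z := by rw [hec]; exact pow_dvd_of_le_rootMultiplicity hzc
  have da : (X - C a) ^ (ea - 1) ∣ wronskian x y := pow_dvd_wronskian_left y dxa
  have db : (X - C b) ^ (eb - 1) ∣ wronskian x y := pow_dvd_wronskian_right x dyb
  have dc : (X - C c) ^ (ec - 1) ∣ wronskian x y := by
    rw [← hWzx]; exact pow_dvd_wronskian_left x dzc
  have ra := (le_rootMultiplicity_iff hW).mpr da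
  have rb := (le_rootMultiplicity_iff hW).mpr db
  have rc := (le_rootMultiplicity_iff hW).mpr dc
  have hcount := three_rootMultiplicity_le hD.hab hD.hbc hD.hca hW
  have hdegW := natDegree_wronskian_add_two_le hxd hyd hW
  have ea' : rootMultiplicity a (wronskian x y) + 1 = ea := by omega
  have eb' : rootMultiplicity b (wronskian x y) + 1 = eb := by omega
  have ec' : rootMultiplicity c (wronskian x y) + 1 = ec := by omega
  have hdegW' : (wronskian x y).natDegree + 2 = 2 * d := by omega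
  -- base point freeness
  have hbpf : ∀ r : k, ∃ s ∈ Submodule.span k {x, y}, s.eval r ≠ 0 := by
    intro r
    by_contra hcon
    push Not at hcon
    have hxr : x.eval r = 0 := hcon x (Submodule.subset_span (by simp))
    have hyr : y.eval r = 0 := hcon y (Submodule.subset_span (by simp))
    have dxr : (X - C r) ^ (0 + 1) ∣ x := by
      rw [zero_add, pow_one]; exact dvd_iff_isRoot.mpr hxr
    have dyr : (X - C r) ^ (0 + 1) ∣ y := by
      rw [zero_add, pow_one]; exact dvd_iff_isRoot.mpr hyr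
    by_cases hra : r = a
    · subst hra
      have := pow_dvd_wronskian dxa dyr
      rw [add_zero, hea] at this
      have := (le_rootMultiplicity_iff hW).mpr this
      omega
    by_cases hrb : r = b
    · subst hrb
      have := pow_dvd_wronskian dxr dyb
      rw [zero_add, heb] at this
      have := (le_rootMultiplicity_iff hW).mpr this
      omega
    by_cases hrc : r = c
    · subst hrc
      have := pow_dvd_wronskian dzc dxr
      rw [add_zero, hec, hWzx] at this
      have := (le_rootMultiplicity_iff hW).mpr this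
      omega
    have hWr : (wronskian x y).eval r = 0 := by
      simp [wronskian, hxr, hyr]
    have hrr : 0 < rootMultiplicity r (wronskian x y) := (rootMultiplicity_pos hW).mpr hWr
    have := four_rootMultiplicity_le hD.hab hD.hbc hD.hca hra hrb hrc hW
    omega
  -- degree
  have hdeg : ∃ s ∈ Submodule.span k {x, y}, s.natDegree = d := by
    by_contra hcon
    push Not at hcon
    have hx' : x.natDegree ≠ d := hcon x (Submodule.subset_span (by simp))
    have hy' : y.natDegree ≠ d := hcon y (Submodule.subset_span (by simp))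
    have := natDegree_wronskian_add_two_le (d := d - 1) (by omega) (by omega) hW
    omega
  have hpen : IsPencil d (Submodule.span k {x, y}) := ⟨hle, hfr, hdeg, hbpf⟩
  exact ⟨hpen, hasRamIdx_of_wronskian hW a ea (hbpf a) ea' hsa,
    hasRamIdx_of_wronskian hW b eb (hbpf b) eb' hsb,
    hasRamIdx_of_wronskian hW c ec (hbpf c) ec' hsc⟩

/-- Separability of a span from non-vanishing of the Wronskian of a basis, and conversely. -/
theorem isSeparable_span_iff {x y : k[X]} :
    W4c1limliniiii.IsSeparable (Submodule.span k {x, y}) ↔ wronskian x y ≠ 0 := by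
  constructor
  · rintro ⟨A, hA, B, hB, hAB⟩
    rw [Submodule.mem_span_pair] at hA hB
    obtain ⟨α, β, rfl⟩ := hA
    obtain ⟨γ, δ, rfl⟩ := hB
    rw [wronskian_comb] at hAB
    intro h
    rw [h, smul_zero] at hAB
    exact hAB rfl
  · intro h
    exact ⟨x, Submodule.subset_span (by simp), y, Submodule.subset_span (by simp), h⟩

theorem data_of_admissible {p d : ℕ} {P : Fin 3 → k}
    (hP : Function.Injective P) {e : Fin 3 → ℕ} (he : W4c1limliniiii.Admissible p d e) :
    Data d (P 0) (P 1) (P 2) (e 0) (e 1) (e 2) := by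
  obtain ⟨h1, h2⟩ := he
  rw [Fin.sum_univ_three] at h2
  refine ⟨fun h => ?_, fun h => ?_, fun h => ?_, (h1 0).2.1, (h1 1).2.1, (h1 2).2.1, by omega⟩
  · exact absurd (hP h) (by decide)
  · exact absurd (hP h) (by decide)
  · exact absurd (hP h) (by decide)

end Groth.Agent.Lib.Helper2.Ram
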