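import Groth.Agent.Lib.Helper2.Ram.Basic

/-!
Three-point ramification data: rigidity (at most one pencil), existence by a dimension
count, and the pencil is a genuine separable base-point-free pencil as soon as its
Wronskian does not vanish.
-/

set_option autoImplicit false
universe u
open Polynomial W4c1limliniiii

namespace Groth.Agent.Lib.Helper2.Ram

variable {k : Type u} [Field k]

/-- Numerical data for three points. -/
structure Data (d : ℕ) (a b c : k) (ea eb ec : ℕ) : Prop where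
  hab : a ≠ b
  hbc : b ≠ c
  hca : c ≠ a
  ha : ea ≤ d
  hb : eb ≤ d
  hc : ec ≤ d
  hsum : ea + eb + ec = 2 * d + 1

theorem Data.rot {d : ℕ} {a b c : k} {ea eb ec : ℕ} (h : Data d a b c ea eb ec) :
    Data d b c a eb ec ea :=
  ⟨h.hbc, h.hca, h.hab, h.hb, h.hc, h.ha, by have := h.hsum; omega⟩

/-- Two non-zero polynomials of degree `≤ d` vanishing to orders `ea`, `eb` at distinct points
with `d < ea + eb` are linearly independent. -/
theorem indep2 {a b : k} (hab : a ≠ b) {ea eb d : ℕ} (h : d < ea + eb) {x y : k[X]}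
    (hx : x ≠ 0) (hy : y ≠ 0) (hxd : x.natDegree ≤ d) (hxa : ea ≤ rootMultiplicity a x)
    (hyb : eb ≤ rootMultiplicity b y) : ∀ α β : k, α • x + β • y = 0 → α = 0 ∧ β = 0 := by
  intro α β hαβ
  by_cases hα : α = 0
  · subst hα
    rw [zero_smul, zero_add] at hαβ
    exact ⟨rfl, (smul_eq_zero.mp hαβ).resolve_right hy⟩
  · exfalso
    have hxe : x = (-(α⁻¹ * β)) • y := by
      have : α • x = -(β • y) := eq_neg_of_add_eq_zero_left hαβ
      calc x = α⁻¹ • (α • x) := by rw [smul_smul, inv_mul_cancel₀ hα, one_smul]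
        _ = (-(α⁻¹ * β)) • y := by rw [this, smul_neg, smul_smul, neg_smul]
    have hdvd : (X - C b) ^ eb ∣ x := by
      rw [hxe, smul_eq_C_mul]
      exact Dvd.dvd.mul_left (pow_dvd_of_le_rootMultiplicity hyb) _
    have hxb : eb ≤ rootMultiplicity b x := (le_rootMultiplicity_iff hx).mpr hdvd
    have := two_rootMultiplicity_le hab hx
    omega

section Rigid

variable [IsAlgClosed k]

/-- Rigidity: a base-point-free pencil of degree `d` with the required vanishing at three
points equals any two-dimensional space of polynomials of degree `≤ d` with the same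
vanishing. -/
theorem rigid {d : ℕ} {a b c : k} {ea eb ec : ℕ} (hD : Data d a b c ea eb ec)
    {V V₀ : Submodule k k[X]} (hV : IsPencil d V) (hV₀le : V₀ ≤ degreeLE k d)
    (hV₀r : Module.finrank k V₀ = 2)
    (hxa : ∃ s ∈ V, s ≠ 0 ∧ ea ≤ rootMultiplicity a s)
    (hxb : ∃ s ∈ V, s ≠ 0 ∧ eb ≤ rootMultiplicity b s)
    (hxc : ∃ s ∈ V, s ≠ 0 ∧ ec ≤ rootMultiplicity c s)
    (hya : ∃ s ∈ V₀, s ≠ 0 ∧ ea ≤ rootMultiplicity a s)
    (hyb : ∃ s ∈ V₀, s ≠ 0 ∧ eb ≤ rootMultiplicity b s)
    (hyc : ∃ s ∈ V₀, s ≠ 0 ∧ ec ≤ rootMultiplicity c s) : V₀ = V := by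
  obtain ⟨hVle, hVr, ⟨sd, hsdV, hsdd⟩, hbpf⟩ := hV
  obtain ⟨sa, hsaV, hsa0, hsaa⟩ := hxa
  obtain ⟨sb, hsbV, hsb0, hsbb⟩ := hxb
  obtain ⟨sc, hscV, hsc0, hscc⟩ := hxc
  obtain ⟨ta, htaV, hta0, htaa⟩ := hya
  obtain ⟨tb, htbV, htb0, htbb⟩ := hyb
  obtain ⟨tc, htcV, htc0, htcc⟩ := hyc
  have hsum := hD.hsum
  have h1 := hD.ha
  have h2 := hD.hb
  have h3 := hD.hc
  have hd1 : 1 ≤ d := by omega
  have degV : ∀ s ∈ V, s.natDegree ≤ d := fun s hs =>
    natDegree_le_of_degree_le (mem_degreeLE.mp (hVle hs))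
  have degV₀ : ∀ s ∈ V₀, s.natDegree ≤ d := fun s hs =>
    natDegree_le_of_degree_le (mem_degreeLE.mp (hV₀le hs))
  -- coordinates in V
  have hliV := indep2 hD.hab (by omega : d < ea + eb) hsa0 hsb0 (degV _ hsaV) hsaa hsbb
  have hVspan := eq_span_pair hVr hsaV hsbV hliV
  have hliV₀ := indep2 hD.hab (by omega : d < ea + eb) hta0 htb0 (degV₀ _ htaV) htaa htbb
  have hV₀span := eq_span_pair hV₀r htaV htbV hliV₀
  have hsc' := hscV
  rw [hVspan, Submodule.mem_span_pair] at hsc'
  obtain ⟨α, β, hsc'⟩ := hsc'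
  have htc' := htcV
  rw [hV₀span, Submodule.mem_span_pair] at htc'
  obtain ⟨α', β', htc'⟩ := htc'
  have hα : α ≠ 0 := by
    rintro rfl
    rw [zero_smul, zero_add] at hsc'
    have := indep2 hD.hbc (by omega : d < eb + ec) hsb0 hsc0 (degV _ hsbV) hsbb hscc β (-1)
      (by rw [hsc']; simp)
    exact one_ne_zero (neg_eq_zero.mp this.2)
  have hβ : β ≠ 0 := by
    rintro rfl
    rw [zero_smul, add_zero] at hsc'
    have := indep2 hD.hca (by omega : d < ec + ea) hsc0 hsa0 (degV _ hscV) hscc hsaa (-1) α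
      (by rw [hsc']; simp)
    exact one_ne_zero (neg_eq_zero.mp this.1)
  set ua : k[X] := α • sa with hua
  set ub : k[X] := β • sb with hub
  set va : k[X] := α' • ta with hva
  set vb : k[X] := β' • tb with hvb
  have hua0 : ua ≠ 0 := smul_ne_zero hα hsa0
  -- the determinant vanishes
  have hD0 : ua * vb - ub * va = 0 := by
    by_contra hne
    have ha' : (X - C a) ^ ea ∣ ua * vb - ub * va := by
      refine dvd_sub (Dvd.dvd.mul_right ?_ _) (Dvd.dvd.mul_left ?_ _)
      · rw [hua, smul_eq_C_mul]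
        exact Dvd.dvd.mul_left (pow_dvd_of_le_rootMultiplicity hsaa) _
      · rw [hva, smul_eq_C_mul]
        exact Dvd.dvd.mul_left (pow_dvd_of_le_rootMultiplicity htaa) _
    have hb' : (X - C b) ^ eb ∣ ua * vb - ub * va := by
      refine dvd_sub (Dvd.dvd.mul_left ?_ _) (Dvd.dvd.mul_right ?_ _)
      · rw [hvb, smul_eq_C_mul]
        exact Dvd.dvd.mul_left (pow_dvd_of_le_rootMultiplicity htbb) _
      · rw [hub, smul_eq_C_mul]
        exact Dvd.dvd.mul_left (pow_dvd_of_le_rootMultiplicity hsbb) _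
    have hc' : (X - C c) ^ ec ∣ ua * vb - ub * va := by
      have : ua * vb - ub * va = sc * vb - ub * tc := by
        rw [← hsc', ← htc']; ring
      rw [this]
      exact dvd_sub (Dvd.dvd.mul_right (pow_dvd_of_le_rootMultiplicity hscc) _)
        (Dvd.dvd.mul_left (pow_dvd_of_le_rootMultiplicity htcc) _)
    have ra := (le_rootMultiplicity_iff hne).mpr ha'
    have rb := (le_rootMultiplicity_iff hne).mpr hb'
    have rc := (le_rootMultiplicity_iff hne).mpr hc'
    have hcount := three_rootMultiplicity_le hD.hab hD.hbc hD.hca hne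
    have hdeg : (ua * vb - ub * va).natDegree ≤ 2 * d := by
      refine (natDegree_sub_le _ _).trans (max_le ?_ ?_)
      · refine natDegree_mul_le.trans ?_
        have i1 : ua.natDegree ≤ d := (natDegree_smul_le α sa).trans (degV _ hsaV)
        have i2 : vb.natDegree ≤ d := (natDegree_smul_le β' tb).trans (degV₀ _ htbV)
        omega
      · refine natDegree_mul_le.trans ?_
        have i1 : ub.natDegree ≤ d := (natDegree_smul_le β sb).trans (degV _ hsbV)
        have i2 : va.natDegree ≤ d := (natDegree_smul_le α' ta).trans (degV₀ _ htaV)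
        omega
    omega
  -- coprimality
  have hcop : IsCoprime ua ub := by
    rw [Polynomial.isCoprime_iff_aeval_ne_zero_of_isAlgClosed (k := k) (K := k)]
    intro r
    by_contra hr
    push Not at hr
    obtain ⟨hr1, hr2⟩ := hr
    simp only [coe_aeval_eq_eval, hua, hub, eval_smul, smul_eq_mul, mul_eq_zero] at hr1 hr2
    have e1 : sa.eval r = 0 := hr1.resolve_left hα
    have e2 : sb.eval r = 0 := hr2.resolve_left hβ
    obtain ⟨s, hs, hsr⟩ := hbpf r
    rw [hVspan, Submodule.mem_span_pair] at hs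
    obtain ⟨γ, δ, rfl⟩ := hs
    apply hsr
    simp [e1, e2]
  have hdvd : ua ∣ va := by
    apply hcop.dvd_of_dvd_mul_right
    rw [show va * ub = ua * vb by linear_combination -hD0]
    exact dvd_mul_right _ _
  obtain ⟨h, hh⟩ := hdvd
  have hvb' : vb = ub * h := by
    have : ua * vb = ua * (ub * h) := by
      rw [show ua * vb = ub * va by linear_combination hD0, hh]; ring
    exact mul_left_cancel₀ hua0 this
  have hh0 : h ≠ 0 := by
    rintro rfl
    apply htc0
    rw [← htc', hh, hvb', mul_zero, mul_zero, add_zero]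
  -- `h * s ∈ V₀` for `s ∈ V`
  have hmul : ∀ s ∈ V, h * s ∈ V₀ := by
    intro s hs
    rw [hVspan, Submodule.mem_span_pair] at hs
    obtain ⟨γ, δ, rfl⟩ := hs
    have : h * (γ • sa + δ • sb) = (γ / α) • va + (δ / β) • vb := by
      rw [hh, hvb']
      simp only [hua, hub, smul_mul_assoc, smul_smul, div_mul_cancel₀ _ hα, div_mul_cancel₀ _ hβ]
      rw [mul_add, mul_smul_comm, mul_smul_comm, mul_comm h, mul_comm h]
    rw [this]
    exact V₀.add_mem (V₀.smul_mem _ (V₀.smul_mem _ htaV)) (V₀.smul_mem _ (V₀.smul_mem _ htbV))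
  have hsd0 : sd ≠ 0 := by
    rintro rfl
    rw [natDegree_zero] at hsdd
    omega
  have hhdeg : h.natDegree = 0 := by
    have := degV₀ _ (hmul sd hsdV)
    rw [natDegree_mul hh0 hsd0] at this
    omega
  obtain ⟨cc, hcc⟩ : ∃ cc : k, h = C cc := ⟨_, eq_C_of_natDegree_eq_zero hhdeg⟩
  have hcc0 : cc ≠ 0 := by
    rintro rfl
    exact hh0 (by rw [hcc, map_zero])
  have hle : V ≤ V₀ := by
    intro s hs
    have h1 := hmul s hs
    rw [hcc, ← smul_eq_C_mul] at h1
    have h2 := V₀.smul_mem cc⁻¹ h1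
    rwa [smul_smul, inv_mul_cancel₀ hcc0, one_smul] at h2
  have : FiniteDimensional k V₀ := FiniteDimensional.of_finrank_pos (by rw [hV₀r]; norm_num)
  exact (Submodule.eq_of_le_of_finrank_eq hle (by rw [hVr, hV₀r])).symm

end Rigid

end Groth.Agent.Lib.Helper2.Ram
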